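import Groth.Agent.S1964
import Groth.Agent.S2651
import Groth.Agent.S2654
import Groth.Agent.Ega4B.NagFinal
import Groth.Prelude.Def_EGA4b
import Mathlib.RingTheory.DedekindDomain.IntegralClosure
import Mathlib.RingTheory.DiscreteValuationRing.TFAE

/-!
# Integral closure of a henselian excellent discrete valuation ring in a finite extension
-/

set_option autoImplicit false

universe u

namespace K679.DvrExtIns

open Groth.Agent

/-- The integral closure of an excellent domain in a finite extension of its fraction field is finite. -/
theorem finite_integralClosure (R K E : Type u) [CommRing R] [IsDomain R] (hR : EGA4.IsExcellent R) [Field K]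
    [Algebra R K] [IsFractionRing R K] [Field E] [Algebra K E] [FiniteDimensional K E] [Algebra R E]
    [IsScalarTower R K E] : Module.Finite R (integralClosure R E) := by
  have hN2 : CAlg.IsN2 R := Ega4B.NagFinal.isN2_of_isNagata (S2654.result R ⟨hR.1, hR.2.2.1, hR.2.2.2⟩)
  let F := FractionRing R
  let e : F ≃ₐ[R] K := FractionRing.algEquiv R K
  let i1 : Algebra F K := (e : F →+* K).toAlgebra
  let i2 : Algebra F E := ((algebraMap K E).comp (e : F →+* K)).toAlgebra
  have i3 : IsScalarTower F K E := IsScalarTower.of_algebraMap_eq fun x => rfl
  have i4 : IsScalarTower R F E := IsScalarTower.of_algebraMap_eq fun x => by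
    change algebraMap R E x = algebraMap K E (e (algebraMap R F x))
    rw [e.commutes, ← IsScalarTower.algebraMap_apply]
  have i5 : Module.Finite F K := Module.Finite.of_surjective (Algebra.linearMap F K) e.surjective
  have i6 : FiniteDimensional F E := Module.Finite.trans K E
  exact hN2 E i6

/-- (EXT) -/
theorem exists_ext (R K E : Type u) [CommRing R] [IsDomain R] [IsDiscreteValuationRing R] [HenselianLocalRing R]
    (hR : EGA4.IsExcellent R) [Field K] [Algebra R K] [IsFractionRing R K] [Field E] [Algebra K E]
    [FiniteDimensional K E] [Algebra R E] [IsScalarTower R K E] :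
    ∃ (R' : Type u) (_ : CommRing R') (_ : IsDomain R') (_ : IsDiscreteValuationRing R') (_ : HenselianLocalRing R')
      (_ : Algebra R' E) (_ : IsFractionRing R' E) (_ : Algebra R R') (_ : IsScalarTower R R' E),
      Module.Finite R R' ∧ EGA4.IsExcellent R' := by
  have hfin := finite_integralClosure R K E hR
  have hfr : IsFractionRing (integralClosure R E) E := IsIntegralClosure.isFractionRing_of_finite_extension R K E _
  obtain ⟨h1, h2, -⟩ := S1964.result R (integralClosure R E)
  have hnoeth : IsNoetherianRing (integralClosure R E) := IsNoetherianRing.of_finite R _
  have hic : IsIntegrallyClosed (integralClosure R E) := integralClosure.isIntegrallyClosedOfFiniteExtension K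
  have hdim : Ring.DimensionLEOne (integralClosure R E) := inferInstance
  have hded : IsDedekindDomain (integralClosure R E) := {}
  have hinj : Function.Injective (algebraMap R (integralClosure R E)) := by
    have h : Function.Injective (algebraMap R E) := by
      rw [IsScalarTower.algebraMap_eq R K E]
      exact (algebraMap K E).injective.comp (IsFractionRing.injective R K)
    intro a b hab
    apply h
    have := congrArg (algebraMap (integralClosure R E) E) hab
    rwa [← IsScalarTower.algebraMap_apply, ← IsScalarTower.algebraMap_apply] at this
  have hnf : ¬ IsField (integralClosure R E) := fun h =>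
    IsDiscreteValuationRing.not_isField R
      (isField_of_isIntegral_of_isField (R := R) (S := integralClosure R E) hinj h)
  have hdvr : IsDiscreteValuationRing (integralClosure R E) :=
    ((IsDiscreteValuationRing.TFAE (integralClosure R E) hnf).out 0 2).mpr hded
  exact ⟨integralClosure R E, inferInstance, inferInstance, hdvr, h1, inferInstance, hfr, inferInstance, inferInstance,
    hfin, S2651.result R hR _⟩

end K679.DvrExtIns
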